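import Mathlib

/-!
# Flat deformations of diagonalisable groups, part 1: tensoring with a square-zero ideal (helper6)

For an ideal `I` of `R` with `I * I = 0` and a flat `R`-module `B`, the map
`iot : I ⊗ B → B` is injective with image `I B`; moreover `I` is an `R ⧸ I`-module (`sc`), which
gives "coefficient" maps `cc`, `JJ` on `I ⊗ -`.
-/

set_option autoImplicit false
set_option linter.unusedSectionVars false
set_option linter.unusedVariables false
set_option linter.unusedSimpArgs false
set_option linter.style.haveILetI false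
set_option linter.overlappingInstances false
set_option maxHeartbeats 800000
set_option synthInstance.maxHeartbeats 400000

universe u
open TensorProduct

namespace Groth.Agent.Lib.Helper6.FlatDef

section Iot

variable {R : Type u} [CommRing R] (I : Ideal R) (B : Type u) [AddCommGroup B] [Module R B]

/-- The multiplication map `I ⊗ B → B`. -/
noncomputable def iot : I ⊗[R] B →ₗ[R] B :=
  (TensorProduct.lid R B).toLinearMap ∘ₗ LinearMap.rTensor B I.subtype

@[simp] lemma iot_tmul (x : I) (b : B) : iot I B (x ⊗ₜ[R] b) = (x : R) • b := by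
  simp [iot]

lemma iot_injective [Module.Flat R B] : Function.Injective (iot I B) := by
  have h1 : Function.Injective (LinearMap.rTensor B I.subtype) :=
    Module.Flat.rTensor_preserves_injective_linearMap _ (Submodule.injective_subtype I)
  exact (TensorProduct.lid R B).injective.comp h1

variable {B}

lemma iot_nat {B' : Type u} [AddCommGroup B'] [Module R B'] (f : B →ₗ[R] B') (z : I ⊗[R] B) :
    f (iot I B z) = iot I B' (LinearMap.lTensor I f z) := by
  induction z using TensorProduct.induction_on with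
  | zero => simp
  | tmul x b => simp
  | add y z hy hz => simp only [map_add, hy, hz]

lemma iot_mem (z : I ⊗[R] B) : iot I B z ∈ I • (⊤ : Submodule R B) := by
  induction z using TensorProduct.induction_on with
  | zero => simp
  | tmul x b =>
    rw [iot_tmul]
    exact Submodule.smul_mem_smul x.2 Submodule.mem_top
  | add y z hy hz =>
    rw [map_add]
    exact Submodule.add_mem _ hy hz

lemma exists_iot_eq {b : B} (hb : b ∈ I • (⊤ : Submodule R B)) : ∃ z, iot I B z = b := by
  refine Submodule.smul_induction_on hb ?_ ?_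
  · intro r hr n _
    exact ⟨(⟨r, hr⟩ : I) ⊗ₜ[R] n, by simp⟩
  · rintro x y ⟨z1, rfl⟩ ⟨z2, rfl⟩
    exact ⟨z1 + z2, map_add _ _ _⟩

lemma one_tmul_smul (x : R) (hx : x ∈ I) (b : B) : (1 : R ⧸ I) ⊗ₜ[R] (x • b) = 0 := by
  rw [TensorProduct.tmul_smul, TensorProduct.smul_tmul', Algebra.smul_def, mul_one,
    Ideal.Quotient.algebraMap_eq, Ideal.Quotient.eq_zero_iff_mem.mpr hx, TensorProduct.zero_tmul]

lemma one_tmul_iot (z : I ⊗[R] B) : (1 : R ⧸ I) ⊗ₜ[R] iot I B z = 0 := by
  induction z using TensorProduct.induction_on with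
  | zero => simp
  | tmul x b => rw [iot_tmul]; exact one_tmul_smul I x x.2 b
  | add y z hy hz => rw [map_add, TensorProduct.tmul_add, hy, hz, add_zero]

lemma one_tmul_of_mem {b : B} (hb : b ∈ I • (⊤ : Submodule R B)) : (1 : R ⧸ I) ⊗ₜ[R] b = 0 := by
  obtain ⟨z, rfl⟩ := exists_iot_eq I hb
  exact one_tmul_iot I z

/-- The kernel of `B → (R/I) ⊗ B`. -/
lemma mem_smul_top_of_one_tmul (b : B) (h : (1 : R ⧸ I) ⊗ₜ[R] b = 0) :
    b ∈ I • (⊤ : Submodule R B) := by
  have h1 := congrArg (TensorProduct.quotTensorEquivQuotSMul B I) h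
  rw [map_zero] at h1
  have h2 : (TensorProduct.quotTensorEquivQuotSMul B I)
      ((Ideal.Quotient.mk I (1 : R)) ⊗ₜ[R] b) = 0 := h1
  rw [TensorProduct.quotTensorEquivQuotSMul_mk_tmul, one_smul, Submodule.Quotient.mk_eq_zero] at h2
  exact h2

end Iot

section SqZero

variable {R : Type u} [CommRing R] (I : Ideal R) (hI : ∀ x ∈ I, ∀ y ∈ I, x * y = 0)
variable {B : Type u} [AddCommGroup B] [Module R B]

include hI in
lemma smul_eq_zero_of_mem (x : R) (hx : x ∈ I) {b : B} (hb : b ∈ I • (⊤ : Submodule R B)) :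
    x • b = 0 := by
  refine Submodule.smul_induction_on hb ?_ ?_
  · intro r hr n _
    rw [smul_smul, hI x hx r hr, zero_smul]
  · intro y z hy hz
    rw [smul_add, hy, hz, add_zero]

include hI in
lemma smul_iot (x : R) (hx : x ∈ I) (z : I ⊗[R] B) : x • iot I B z = 0 :=
  smul_eq_zero_of_mem I hI x hx (iot_mem I z)

include hI in
lemma smul_subtype_eq_zero (y : R) (hy : y ∈ I) (x : I) : y • x = 0 := by
  apply Subtype.ext
  rw [Submodule.coe_smul, smul_eq_mul, hI y hy x x.2]
  rfl

include hI in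
lemma tmul_eq_zero_of_mem (x : I) {b : B} (hb : b ∈ I • (⊤ : Submodule R B)) :
    x ⊗ₜ[R] b = 0 := by
  refine Submodule.smul_induction_on hb ?_ ?_
  · intro r hr n _
    rw [TensorProduct.tmul_smul, TensorProduct.smul_tmul', smul_subtype_eq_zero I hI r hr x,
      TensorProduct.zero_tmul]
  · intro y z hy hz
    rw [TensorProduct.tmul_add, hy, hz, add_zero]

include hI in
lemma tmul_tmul_eq_zero_of_mem {B' : Type u} [AddCommGroup B'] [Module R B'] {b : B} {b' : B'}
    (hb : b ∈ I • (⊤ : Submodule R B)) (hb' : b' ∈ I • (⊤ : Submodule R B')) :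
    b ⊗ₜ[R] b' = 0 := by
  refine Submodule.smul_induction_on hb ?_ ?_
  · intro r hr n _
    rw [TensorProduct.smul_tmul, smul_eq_zero_of_mem I hI r hr hb', TensorProduct.tmul_zero]
  · intro y z hy hz
    rw [TensorProduct.add_tmul, hy, hz, add_zero]

include hI in
lemma mul_self_eq_bot : I * I = ⊥ := by
  rw [eq_bot_iff, Ideal.mul_le]
  intro x hx y hy
  rw [hI x hx y hy]
  exact Submodule.zero_mem _

/-- The action of `R ⧸ I` on the square-zero ideal `I`. -/
noncomputable def sc : (R ⧸ I) →ₗ[R] (I →ₗ[R] I) :=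
  Submodule.liftQ I (LinearMap.lsmul R I) (by
    intro r hr
    rw [LinearMap.mem_ker]
    apply LinearMap.ext
    intro x
    exact smul_subtype_eq_zero I hI r hr x)

lemma sc_mk (r : R) (x : I) : sc I hI (Ideal.Quotient.mk I r) x = r • x := rfl

lemma sc_one (x : I) : sc I hI 1 x = x := by
  rw [← map_one (Ideal.Quotient.mk I), sc_mk, one_smul]

variable {A : Type u} [AddCommGroup A] [Module R A] (φ : A →ₗ[R] (R ⧸ I))

/-- `x ⊗ a ↦ φ(a) x`. -/
noncomputable def cc : I ⊗[R] A →ₗ[R] I := TensorProduct.lift ((sc I hI ∘ₗ φ).flip)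

@[simp] lemma cc_tmul (x : I) (a : A) : cc I hI φ (x ⊗ₜ[R] a) = sc I hI (φ a) x := rfl

variable (B)

/-- `x ⊗ (b ⊗ a) ↦ (φ(a) x) ⊗ b`. -/
noncomputable def JJ : I ⊗[R] (B ⊗[R] A) →ₗ[R] I ⊗[R] B :=
  (LinearMap.rTensor B (cc I hI φ)) ∘ₗ (TensorProduct.assoc R I A B).symm.toLinearMap ∘ₗ
    (LinearMap.lTensor I (TensorProduct.comm R B A).toLinearMap)

variable {B}

@[simp] lemma JJ_tmul (x : I) (b : B) (a : A) :
    JJ I hI B φ (x ⊗ₜ[R] (b ⊗ₜ[R] a)) = (sc I hI (φ a) x) ⊗ₜ[R] b := by
  simp [JJ]

lemma JJ_nat {B' : Type u} [AddCommGroup B'] [Module R B'] (f : B →ₗ[R] B')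
    (z : I ⊗[R] (B ⊗[R] A)) :
    JJ I hI B' φ (LinearMap.lTensor I (LinearMap.rTensor A f) z) =
      LinearMap.lTensor I f (JJ I hI B φ z) := by
  induction z using TensorProduct.induction_on with
  | zero => simp
  | tmul x w =>
    induction w using TensorProduct.induction_on with
    | zero => simp
    | tmul b a => simp
    | add w₁ w₂ h₁ h₂ =>
      rw [TensorProduct.tmul_add, map_add, map_add, h₁, h₂, map_add, map_add]
  | add y z hy hz => simp only [map_add, hy, hz]

/-- `iot ∘ JJ` commutes with maps in the `B`-variable. -/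
lemma iot_JJ_nat {B' : Type u} [AddCommGroup B'] [Module R B'] (f : B →ₗ[R] B')
    (z : I ⊗[R] (B ⊗[R] A)) :
    iot I B' (JJ I hI B' φ (LinearMap.lTensor I (LinearMap.rTensor A f) z)) =
      f (iot I B (JJ I hI B φ z)) := by
  rw [JJ_nat, iot_nat]

/-- Inserting an element `a` with `φ a = 1` in the last slot and integrating gives back `z`. -/
lemma JJ_flip_mk (a : A) (ha : φ a = 1) (z : I ⊗[R] B) :
    JJ I hI B φ (LinearMap.lTensor I ((TensorProduct.mk R B A).flip a) z) = z := by
  induction z using TensorProduct.induction_on with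
  | zero => simp
  | tmul x b => simp [ha, sc_one]
  | add y z hy hz => simp only [map_add, hy, hz]

end SqZero

end Groth.Agent.Lib.Helper6.FlatDef
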