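import Mathlib
import Groth.Prelude.Def_SGA3b
import Groth.Agent.Lib.Helper6.MultType.Basic
import Groth.Agent.Lib.Helper6.Lift.DiagMain
import Groth.Agent.Lib.Helper6.FlatDef.FD1

/-!
# Flat deformations of diagonalisable groups, part 2: lifting characters through a square-zero
extension (helper6)

`A` is a flat Hopf algebra over `R`, `I` a square-zero ideal, and `(R/I) ⊗ A ≃ (R/I)[M]`.
Every character `m ∈ M` lifts uniquely to a group-like element of `A` (vanishing of the Hochschild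
`H^1` and `H^2` of a diagonalisable group, via the invariant integral "coefficient of `m`").
-/

set_option autoImplicit false
set_option linter.unusedSectionVars false
set_option linter.unusedVariables false
set_option linter.unusedSimpArgs false
set_option linter.style.haveILetI false
set_option linter.overlappingInstances false
set_option maxHeartbeats 800000
set_option synthInstance.maxHeartbeats 400000

universe u
open TensorProduct SGA3b Coalgebra
open Groth.Agent.Lib.Helper6.MultType Groth.Agent.Lib.Helper6.Lift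

namespace Groth.Agent.Lib.Helper6.FlatDef

section T0

variable (R : Type u) [CommRing R] (R' : Type u) [CommRing R'] [Algebra R R']
variable (A : Type u) [CommRing A] [Bialgebra R A]

lemma T₀_eq_distrib (z : A ⊗[R] A) :
    T₀ R R' A z =
      TensorProduct.AlgebraTensorModule.distribBaseChange R R' A A ((1 : R') ⊗ₜ[R] z) := by
  induction z using TensorProduct.induction_on with
  | zero => simp
  | tmul a b => simp
  | add y z hy hz => rw [map_add, hy, hz, TensorProduct.tmul_add, map_add]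

end T0

section Hopf

variable {R : Type u} [CommRing R] {A : Type u} [CommRing A] [HopfAlgebra R A]
variable (I : Ideal R) (hI : ∀ x ∈ I, ∀ y ∈ I, x * y = 0)
variable {M : Type u} [CommGroup M] (e₀ : (R ⧸ I) ⊗[R] A ≃ₐc[R ⧸ I] MonoidAlgebra (R ⧸ I) M)

lemma exists_isLift (n : M) :
    ∃ a : A, e₀ ((1 : R ⧸ I) ⊗ₜ[R] a) = MonoidAlgebra.single n 1 := by
  obtain ⟨a, ha⟩ := exists_one_tmul I A (e₀.symm (MonoidAlgebra.single n 1))
  exact ⟨a, by rw [ha, BialgEquiv.apply_symm_apply]⟩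

lemma mem_of_e₀_eq_zero {a : A} (h : e₀ ((1 : R ⧸ I) ⊗ₜ[R] a) = 0) :
    a ∈ I • (⊤ : Submodule R A) := by
  apply mem_smul_top_of_one_tmul I
  have hinj : Function.Injective e₀ := e₀.injective
  apply hinj
  rw [h, map_zero]

lemma sub_mem_of_isLift {a a' : A} {n : M}
    (ha : e₀ ((1 : R ⧸ I) ⊗ₜ[R] a) = MonoidAlgebra.single n 1)
    (ha' : e₀ ((1 : R ⧸ I) ⊗ₜ[R] a') = MonoidAlgebra.single n 1) :
    a - a' ∈ I • (⊤ : Submodule R A) := by
  apply mem_of_e₀_eq_zero I e₀
  rw [TensorProduct.tmul_sub, map_sub, ha, ha', sub_self]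

open Classical in
lemma lam_of_isLift {a : A} {n : M}
    (ha : e₀ ((1 : R ⧸ I) ⊗ₜ[R] a) = MonoidAlgebra.single n 1) (m : M) :
    lam I e₀ m a = if n = m then 1 else 0 := by
  rw [lam_apply, ha, MonoidAlgebra.coeff_single, Finsupp.single_apply]

lemma lam_self_of_isLift {a : A} {m : M}
    (ha : e₀ ((1 : R ⧸ I) ⊗ₜ[R] a) = MonoidAlgebra.single m 1) : lam I e₀ m a = 1 := by
  rw [lam_of_isLift I e₀ ha, if_pos rfl]

lemma isGroupLike_one_tmul_of_isLift {a : A} {n : M}
    (ha : e₀ ((1 : R ⧸ I) ⊗ₜ[R] a) = MonoidAlgebra.single n 1) :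
    IsGroupLikeElem (R ⧸ I) ((1 : R ⧸ I) ⊗ₜ[R] a) := by
  have h1 := (MonoidAlgebra.isGroupLikeElem_single_one (R := R ⧸ I) (A := R ⧸ I) n).map e₀.symm
  rwa [← ha, BialgEquiv.symm_apply_apply] at h1

/-- A lift of a character is group-like up to `I (A ⊗ A)`. -/
lemma comul_sub_mem {a : A} {n : M}
    (ha : e₀ ((1 : R ⧸ I) ⊗ₜ[R] a) = MonoidAlgebra.single n 1) :
    comul (R := R) a - a ⊗ₜ[R] a ∈ I • (⊤ : Submodule R (A ⊗[R] A)) := by
  apply mem_smul_top_of_one_tmul I
  have hgl := isGroupLike_one_tmul_of_isLift I e₀ ha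
  have h1 := hgl.comul_eq_tmul_self
  rw [comul_one_tmul R (R ⧸ I) A a] at h1
  have h2 : T₀ R (R ⧸ I) A (comul (R := R) a - a ⊗ₜ[R] a) = 0 := by
    rw [map_sub, h1, T₀_tmul, sub_self]
  rw [T₀_eq_distrib] at h2
  exact (LinearEquiv.map_eq_zero_iff _).mp h2

/-- `A` is spanned modulo `I A` by lifts of characters. -/
lemma span_isLift_sup :
    Submodule.span R {a : A | ∃ n : M, e₀ ((1 : R ⧸ I) ⊗ₜ[R] a) = MonoidAlgebra.single n 1} ⊔
      I • (⊤ : Submodule R A) = ⊤ := by
  rw [eq_top_iff]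
  intro a _
  have key : ∀ y : MonoidAlgebra (R ⧸ I) M, ∀ a : A, e₀ ((1 : R ⧸ I) ⊗ₜ[R] a) = y →
      a ∈ Submodule.span R
        {a : A | ∃ n : M, e₀ ((1 : R ⧸ I) ⊗ₜ[R] a) = MonoidAlgebra.single n 1} ⊔
          I • (⊤ : Submodule R A) := by
    intro y
    induction y using MonoidAlgebra.induction_linear with
    | zero =>
      intro a ha
      exact Submodule.mem_sup_right (mem_of_e₀_eq_zero I e₀ ha)
    | add y₁ y₂ h₁ h₂ =>
      intro a ha
      obtain ⟨a₁, ha₁⟩ := exists_one_tmul I A (e₀.symm y₁)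
      have e1 : e₀ ((1 : R ⧸ I) ⊗ₜ[R] a₁) = y₁ := by rw [ha₁, BialgEquiv.apply_symm_apply]
      have e2 : e₀ ((1 : R ⧸ I) ⊗ₜ[R] (a - a₁)) = y₂ := by
        rw [TensorProduct.tmul_sub, map_sub, ha, e1, add_sub_cancel_left]
      have := Submodule.add_mem _ (h₂ _ e2) (h₁ _ e1)
      rwa [sub_add_cancel] at this
    | single n r =>
      intro a ha
      obtain ⟨r, rfl⟩ := Ideal.Quotient.mk_surjective r
      obtain ⟨aₙ, haₙ⟩ := exists_isLift I e₀ n
      have e1 : e₀ ((1 : R ⧸ I) ⊗ₜ[R] (r • aₙ)) =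
          MonoidAlgebra.single n (Ideal.Quotient.mk I r) := by
        have e3 : (1 : R ⧸ I) ⊗ₜ[R] (r • aₙ) =
            (Ideal.Quotient.mk I r) • ((1 : R ⧸ I) ⊗ₜ[R] aₙ) := by
          rw [TensorProduct.tmul_smul, TensorProduct.smul_tmul', TensorProduct.smul_tmul',
            Algebra.smul_def, mul_one, smul_eq_mul, mul_one]
          rfl
        rw [e3, map_smul, haₙ, MonoidAlgebra.smul_single, smul_eq_mul, mul_one]
      have e2 : a - r • aₙ ∈ I • (⊤ : Submodule R A) := by
        apply mem_of_e₀_eq_zero I e₀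
        rw [TensorProduct.tmul_sub, map_sub, ha, e1, sub_self]
      have h3 : r • aₙ ∈ Submodule.span R
          {a : A | ∃ n : M, e₀ ((1 : R ⧸ I) ⊗ₜ[R] a) = MonoidAlgebra.single n 1} :=
        Submodule.smul_mem _ _ (Submodule.subset_span ⟨n, haₙ⟩)
      have := Submodule.add_mem _ (Submodule.mem_sup_right e2) (Submodule.mem_sup_left h3)
      rwa [sub_add_cancel] at this
  exact key _ a rfl

/-- Invariance of the integral "coefficient of `m`", lifted to `A`. -/
lemma key_K (m : M) {a : A} (ha : e₀ ((1 : R ⧸ I) ⊗ₜ[R] a) = MonoidAlgebra.single m 1)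
    (x : I) (a₂ : A) :
    iot I A (JJ I hI A (lam I e₀ m) (x ⊗ₜ[R] comul (R := R) a₂)) =
      ((sc I hI (lam I e₀ m a₂) x : I) : R) • a := by
  let L₁ : A →ₗ[R] A := iot I A ∘ₗ JJ I hI A (lam I e₀ m) ∘ₗ
    (TensorProduct.mk R I (A ⊗[R] A) x) ∘ₗ (comul (R := R) (A := A))
  let L₂ : A →ₗ[R] A := (LinearMap.toSpanSingleton R A a) ∘ₗ I.subtype ∘ₗ
    ((sc I hI ∘ₗ lam I e₀ m).flip x)
  suffices h : L₁ = L₂ from LinearMap.congr_fun h a₂
  have htop : LinearMap.eqLocus L₁ L₂ = ⊤ := by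
    rw [eq_top_iff, ← span_isLift_sup I e₀, sup_le_iff]
    constructor
    · rw [Submodule.span_le]
      rintro a' ⟨n, ha'⟩
      show L₁ a' = L₂ a'
      have hδ := comul_sub_mem I e₀ ha'
      have e1 : comul (R := R) a' = a' ⊗ₜ[R] a' + (comul (R := R) a' - a' ⊗ₜ[R] a') := by abel
      have e2 : L₁ a' = ((sc I hI (lam I e₀ m a') x : I) : R) • a' := by
        show iot I A (JJ I hI A (lam I e₀ m) (x ⊗ₜ[R] comul (R := R) a')) = _
        rw [e1, TensorProduct.tmul_add, tmul_eq_zero_of_mem I hI x hδ, add_zero, JJ_tmul, iot_tmul]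
      have e3 : L₂ a' = ((sc I hI (lam I e₀ m a') x : I) : R) • a := rfl
      rw [e2, e3, lam_of_isLift I e₀ ha']
      by_cases hnm : n = m
      · subst hnm
        rw [if_pos rfl, sc_one, ← sub_eq_zero, ← smul_sub]
        exact smul_eq_zero_of_mem I hI x x.2 (sub_mem_of_isLift I e₀ ha' ha)
      · rw [if_neg hnm, map_zero, LinearMap.zero_apply, Submodule.coe_zero, zero_smul, zero_smul]
    · rw [Submodule.smul_le]
      intro y hy b _
      show L₁ (y • b) = L₂ (y • b)
      rw [map_smul, map_smul]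
      have e2 : y • L₁ b = 0 := smul_iot I hI y hy _
      have e3 : y • L₂ b = 0 := by
        show y • (((sc I hI (lam I e₀ m b) x : I) : R) • a) = 0
        rw [smul_smul, hI y hy _ (sc I hI (lam I e₀ m b) x).2, zero_smul]
      rw [e2, e3]
  ext a'
  have : a' ∈ LinearMap.eqLocus L₁ L₂ := htop ▸ Submodule.mem_top
  exact this

end Hopf

end Groth.Agent.Lib.Helper6.FlatDef
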