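import Mathlib
import Groth.Prelude.Def_SGA3b
import Groth.Agent.Lib.Helper6.FlatDef.FD2

/-!
# Flat deformations of diagonalisable groups, part 3: existence and uniqueness of group-like lifts
(helper6)
-/

set_option autoImplicit false
set_option linter.unusedSectionVars false
set_option linter.unusedVariables false
set_option linter.unusedSimpArgs false
set_option linter.style.haveILetI false
set_option linter.overlappingInstances false
set_option maxHeartbeats 800000
set_option synthInstance.maxHeartbeats 400000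

universe u
open TensorProduct SGA3b Coalgebra
open Groth.Agent.Lib.Helper6.MultType Groth.Agent.Lib.Helper6.Lift

namespace Groth.Agent.Lib.Helper6.FlatDef

section Aux

variable {R : Type u} [CommRing R] {A : Type u} [AddCommGroup A] [Module R A]

lemma assoc_symm_tmul_eq (a : A) (w : A ⊗[R] A) :
    (TensorProduct.assoc R A A A).symm (a ⊗ₜ[R] w) =
      LinearMap.rTensor A (TensorProduct.mk R A A a) w := by
  induction w using TensorProduct.induction_on with
  | zero => simp
  | tmul b c => simp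
  | add y z hy hz => rw [TensorProduct.tmul_add, map_add, hy, hz, map_add]

variable (I : Ideal R) (hI : ∀ x ∈ I, ∀ y ∈ I, x * y = 0)

lemma iot_JJ_assoc (φ : A →ₗ[R] R ⧸ I) (x : I) (a₁ : A) (w : A ⊗[R] A) :
    iot I (A ⊗[R] A) (JJ I hI (A ⊗[R] A) φ
      (x ⊗ₜ[R] (TensorProduct.assoc R A A A).symm (a₁ ⊗ₜ[R] w))) =
      a₁ ⊗ₜ[R] iot I A (JJ I hI A φ (x ⊗ₜ[R] w)) := by
  induction w using TensorProduct.induction_on with
  | zero => simp
  | tmul b c =>
    rw [TensorProduct.assoc_symm_tmul, JJ_tmul, JJ_tmul, iot_tmul, iot_tmul,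
      TensorProduct.tmul_smul]
  | add y z hy hz =>
    rw [TensorProduct.tmul_add, map_add, TensorProduct.tmul_add, map_add, map_add, hy, hz,
      TensorProduct.tmul_add x, map_add, map_add, TensorProduct.tmul_add]

end Aux

section Hopf

variable {R : Type u} [CommRing R] {A : Type u} [CommRing A] [HopfAlgebra R A] [Module.Flat R A]
variable (I : Ideal R) (hI : ∀ x ∈ I, ∀ y ∈ I, x * y = 0)
variable {M : Type u} [CommGroup M] (e₀ : (R ⧸ I) ⊗[R] A ≃ₐc[R ⧸ I] MonoidAlgebra (R ⧸ I) M)

lemma L4 (m : M) {a : A} (ha : e₀ ((1 : R ⧸ I) ⊗ₜ[R] a) = MonoidAlgebra.single m 1)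
    (z : I ⊗[R] (A ⊗[R] A)) :
    iot I (A ⊗[R] A) (JJ I hI (A ⊗[R] A) (lam I e₀ m)
      (LinearMap.lTensor I ((TensorProduct.assoc R A A A).symm.toLinearMap ∘ₗ
        LinearMap.lTensor A (comul (R := R) (A := A))) z)) =
    iot I A (JJ I hI A (lam I e₀ m) z) ⊗ₜ[R] a := by
  induction z using TensorProduct.induction_on with
  | zero => simp
  | tmul x w =>
    induction w using TensorProduct.induction_on with
    | zero => simp
    | tmul a₁ a₂ =>
      rw [LinearMap.lTensor_tmul, LinearMap.comp_apply, LinearMap.lTensor_tmul,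
        LinearEquiv.coe_coe, iot_JJ_assoc, key_K I hI e₀ m ha, JJ_tmul, iot_tmul,
        TensorProduct.tmul_smul, TensorProduct.smul_tmul']
    | add w₁ w₂ h₁ h₂ =>
      rw [TensorProduct.tmul_add, map_add, map_add, map_add, h₁, h₂, map_add, map_add,
        TensorProduct.add_tmul]
  | add y z hy hz =>
    rw [map_add, map_add, map_add, hy, hz, map_add, map_add, TensorProduct.add_tmul]

include hI in
lemma counit_eq_one_of_comul {g : A} {m : M} (hcomul : comul (R := R) g = g ⊗ₜ[R] g)
    (hg : e₀ ((1 : R ⧸ I) ⊗ₜ[R] g) = MonoidAlgebra.single m 1) : counit (R := R) g = 1 := by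
  have hgl := isGroupLike_one_tmul_of_isLift I e₀ hg
  have h1 := hgl.counit_eq_one
  rw [counit_one_tmul R (R ⧸ I) A g] at h1
  have hi : counit (R := R) g - 1 ∈ I := by
    rw [← Ideal.Quotient.eq_zero_iff_mem, map_sub, map_one, sub_eq_zero]
    exact h1
  have h2 : counit (R := R) g • g = g := by
    have := Coalgebra.rTensor_counit_comul (R := R) g
    rw [hcomul, LinearMap.rTensor_tmul] at this
    have h3 := congrArg (TensorProduct.lid R A) this
    rwa [TensorProduct.lid_tmul, TensorProduct.lid_tmul, one_smul] at h3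
  have h3 : counit (R := R) g * counit (R := R) g = counit (R := R) g := by
    have := congrArg (counit (R := R)) h2
    rwa [map_smul, smul_eq_mul] at this
  have h4 := hI _ hi _ hi
  linear_combination h3 - h4

include hI in
/-- Existence of group-like lifts of characters. -/
theorem exists_gl_lift_flat (m : M) :
    ∃ g : A, IsGroupLikeElem R g ∧ e₀ ((1 : R ⧸ I) ⊗ₜ[R] g) = MonoidAlgebra.single m 1 := by
  obtain ⟨a, ha⟩ := exists_isLift I e₀ m
  obtain ⟨δt, hδt⟩ := exists_iot_eq I (comul_sub_mem I e₀ ha)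
  have hφa : lam I e₀ m a = 1 := lam_self_of_isLift I e₀ ha
  have hca : comul (R := R) a = a ⊗ₜ[R] a + iot I (A ⊗[R] A) δt := by rw [hδt]; abel
  -- the cocycle identity
  have hco : ((TensorProduct.mk R (A ⊗[R] A) A).flip a) (iot I (A ⊗[R] A) δt) +
      LinearMap.rTensor A (comul (R := R) (A := A)) (iot I (A ⊗[R] A) δt) =
      LinearMap.rTensor A (TensorProduct.mk R A A a) (iot I (A ⊗[R] A) δt) +
      ((TensorProduct.assoc R A A A).symm.toLinearMap ∘ₗ
        LinearMap.lTensor A (comul (R := R) (A := A))) (iot I (A ⊗[R] A) δt) := by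
    have h1 := Coalgebra.coassoc_symm_apply (R := R) a
    rw [hca, map_add, map_add, map_add, LinearMap.lTensor_tmul, LinearMap.rTensor_tmul, hca,
      TensorProduct.tmul_add, map_add, TensorProduct.add_tmul, TensorProduct.assoc_symm_tmul,
      assoc_symm_tmul_eq] at h1
    rw [LinearMap.comp_apply, LinearEquiv.coe_coe, LinearMap.flip_apply, TensorProduct.mk_apply]
    have h2 := congrArg (fun t => t - (a ⊗ₜ[R] a) ⊗ₜ[R] a) h1
    simp only [add_assoc, add_sub_cancel_left] at h2
    exact h2.symm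
  have hten : LinearMap.lTensor I ((TensorProduct.mk R (A ⊗[R] A) A).flip a) δt +
      LinearMap.lTensor I (LinearMap.rTensor A (comul (R := R) (A := A))) δt =
      LinearMap.lTensor I (LinearMap.rTensor A (TensorProduct.mk R A A a)) δt +
      LinearMap.lTensor I ((TensorProduct.assoc R A A A).symm.toLinearMap ∘ₗ
        LinearMap.lTensor A (comul (R := R) (A := A))) δt := by
    apply iot_injective I ((A ⊗[R] A) ⊗[R] A)
    rw [map_add, map_add, ← iot_nat, ← iot_nat, ← iot_nat, ← iot_nat]
    exact hco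
  have hG := congrArg (fun t => iot I (A ⊗[R] A) (JJ I hI (A ⊗[R] A) (lam I e₀ m) t)) hten
  simp only [map_add] at hG
  rw [JJ_flip_mk I hI (lam I e₀ m) a hφa, iot_JJ_nat, iot_JJ_nat, L4 I hI e₀ m ha, hδt] at hG
  -- hG : δ + comul β = a ⊗ β + β ⊗ a
  have hβmem : iot I A (JJ I hI A (lam I e₀ m) δt) ∈ I • (⊤ : Submodule R A) := iot_mem I _
  have hββ := tmul_tmul_eq_zero_of_mem I hI hβmem hβmem
  have hlift : e₀ ((1 : R ⧸ I) ⊗ₜ[R] (a + iot I A (JJ I hI A (lam I e₀ m) δt))) =
      MonoidAlgebra.single m 1 := by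
    rw [TensorProduct.tmul_add, one_tmul_iot, add_zero, ha]
  have hcomul : comul (R := R) (a + iot I A (JJ I hI A (lam I e₀ m) δt)) =
      (a + iot I A (JJ I hI A (lam I e₀ m) δt)) ⊗ₜ[R]
        (a + iot I A (JJ I hI A (lam I e₀ m) δt)) := by
    rw [map_add, TensorProduct.add_tmul, TensorProduct.tmul_add, TensorProduct.tmul_add, hββ,
      add_zero]
    rw [TensorProduct.mk_apply] at hG
    have e1 : comul (R := R) a = a ⊗ₜ[R] a + (comul (R := R) a - a ⊗ₜ[R] a) := by abel
    rw [e1, add_assoc, hG]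
    abel
  exact ⟨_, ⟨counit_eq_one_of_comul I hI e₀ hcomul hlift, hcomul⟩, hlift⟩

end Hopf

end Groth.Agent.Lib.Helper6.FlatDef
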