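import Mathlib
import Groth.Prelude.Def_SGA3b
import Groth.Agent.Lib.Helper6.FlatDef.FD3
import Groth.Agent.Lib.Helper6.IsoNil.IN1

/-!
# Flat deformations of diagonalisable groups, part 4: a flat Hopf algebra which is diagonalisable
modulo a nilpotent ideal is diagonalisable (helper6)
-/

set_option autoImplicit false
set_option linter.unusedSectionVars false
set_option linter.unusedVariables false
set_option linter.unusedSimpArgs false
set_option linter.style.haveILetI false
set_option linter.overlappingInstances false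
set_option maxHeartbeats 800000
set_option synthInstance.maxHeartbeats 400000

universe u
open TensorProduct SGA3b Coalgebra
open Groth.Agent.Lib.Helper6.MultType Groth.Agent.Lib.Helper6.Lift

namespace Groth.Agent.Lib.Helper6.FlatDef

section Hopf

variable {R : Type u} [CommRing R] {A : Type u} [CommRing A] [HopfAlgebra R A] [Module.Flat R A]
variable (I : Ideal R) (hI : ∀ x ∈ I, ∀ y ∈ I, x * y = 0)
variable {M : Type u} [CommGroup M] (e₀ : (R ⧸ I) ⊗[R] A ≃ₐc[R ⧸ I] MonoidAlgebra (R ⧸ I) M)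

lemma U1 (m : M) {g : A} (hg : e₀ ((1 : R ⧸ I) ⊗ₜ[R] g) = MonoidAlgebra.single m 1)
    (z : I ⊗[R] A) :
    iot I A (JJ I hI A (lam I e₀ m) (LinearMap.lTensor I (comul (R := R) (A := A)) z)) =
      ((cc I hI (lam I e₀ m) z : I) : R) • g := by
  induction z using TensorProduct.induction_on with
  | zero => simp
  | tmul x a₂ => rw [LinearMap.lTensor_tmul, key_K I hI e₀ m hg, cc_tmul]
  | add y z hy hz =>
    rw [map_add, map_add, map_add, hy, hz, map_add, Submodule.coe_add, add_smul]

lemma U2 (φ : A →ₗ[R] R ⧸ I) (g : A) (z : I ⊗[R] A) :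
    iot I A (JJ I hI A φ (LinearMap.lTensor I (TensorProduct.mk R A A g) z)) =
      ((cc I hI φ z : I) : R) • g := by
  induction z using TensorProduct.induction_on with
  | zero => simp
  | tmul x a₂ => rw [LinearMap.lTensor_tmul, TensorProduct.mk_apply, JJ_tmul, iot_tmul, cc_tmul]
  | add y z hy hz =>
    rw [map_add, map_add, map_add, hy, hz, map_add, Submodule.coe_add, add_smul]

include hI in
/-- Uniqueness of group-like lifts of characters. -/
theorem gl_lift_unique_flat {g g' : A} (hg : IsGroupLikeElem R g) (hg' : IsGroupLikeElem R g')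
    {m : M} (h1 : e₀ ((1 : R ⧸ I) ⊗ₜ[R] g) = MonoidAlgebra.single m 1)
    (h2 : e₀ ((1 : R ⧸ I) ⊗ₜ[R] g') = MonoidAlgebra.single m 1) : g = g' := by
  have hβmem : g' - g ∈ I • (⊤ : Submodule R A) := sub_mem_of_isLift I e₀ h2 h1
  obtain ⟨βt, hβt⟩ := exists_iot_eq I hβmem
  have hφg : lam I e₀ m g = 1 := lam_self_of_isLift I e₀ h1
  have hββ := tmul_tmul_eq_zero_of_mem I hI hβmem hβmem
  have hcom : comul (R := R) (iot I A βt) =
      (TensorProduct.mk R A A g) (iot I A βt) + ((TensorProduct.mk R A A).flip g) (iot I A βt) := by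
    rw [hβt, map_sub, hg'.comul_eq_tmul_self, hg.comul_eq_tmul_self, TensorProduct.mk_apply,
      LinearMap.flip_apply, TensorProduct.mk_apply]
    have e : g' ⊗ₜ[R] g' = g ⊗ₜ[R] g + g ⊗ₜ[R] (g' - g) + (g' - g) ⊗ₜ[R] g +
        (g' - g) ⊗ₜ[R] (g' - g) := by
      simp only [TensorProduct.tmul_sub, TensorProduct.sub_tmul]
      abel
    rw [e, hββ]
    abel
  have hten : LinearMap.lTensor I (comul (R := R) (A := A)) βt =
      LinearMap.lTensor I (TensorProduct.mk R A A g) βt +
        LinearMap.lTensor I ((TensorProduct.mk R A A).flip g) βt := by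
    apply iot_injective I (A ⊗[R] A)
    rw [map_add, ← iot_nat, ← iot_nat, ← iot_nat]
    exact hcom
  have hG := congrArg (fun t => iot I A (JJ I hI A (lam I e₀ m) t)) hten
  simp only [map_add] at hG
  rw [U1 I hI e₀ m h1, U2, JJ_flip_mk I hI (lam I e₀ m) g hφg, hβt] at hG
  have : g' - g = 0 := by
    have h3 := congrArg (fun t => t - ((cc I hI (lam I e₀ m) βt : I) : R) • g) hG
    simp only [sub_self, add_sub_cancel_left] at h3
    exact h3.symm
  exact (sub_eq_zero.mp this).symm

/-- The lifted characters. -/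
noncomputable def γf : M →* GroupLike R A where
  toFun m := ⟨(exists_gl_lift_flat I hI e₀ m).choose, (exists_gl_lift_flat I hI e₀ m).choose_spec.1⟩
  map_one' := by
    apply GroupLike.val_injective
    apply gl_lift_unique_flat I hI e₀ (exists_gl_lift_flat I hI e₀ 1).choose_spec.1
      (GroupLike.isGroupLikeElem_val (1 : GroupLike R A)) (m := 1)
    · exact (exists_gl_lift_flat I hI e₀ 1).choose_spec.2
    · show e₀ ((1 : R ⧸ I) ⊗ₜ[R] (1 : A)) = MonoidAlgebra.single 1 1
      rw [← Algebra.TensorProduct.one_def, map_one, MonoidAlgebra.one_def]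
  map_mul' m n := by
    apply GroupLike.val_injective
    apply gl_lift_unique_flat I hI e₀ (exists_gl_lift_flat I hI e₀ (m * n)).choose_spec.1
      (GroupLike.isGroupLikeElem_val (_ * _ : GroupLike R A)) (m := m * n)
    · exact (exists_gl_lift_flat I hI e₀ (m * n)).choose_spec.2
    · rw [GroupLike.val_mul]
      have h1 : (1 : R ⧸ I) ⊗ₜ[R] ((exists_gl_lift_flat I hI e₀ m).choose *
          (exists_gl_lift_flat I hI e₀ n).choose) =
          ((1 : R ⧸ I) ⊗ₜ[R] (exists_gl_lift_flat I hI e₀ m).choose) *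
            ((1 : R ⧸ I) ⊗ₜ[R] (exists_gl_lift_flat I hI e₀ n).choose) := by
        rw [Algebra.TensorProduct.tmul_mul_tmul, one_mul]
      show e₀ ((1 : R ⧸ I) ⊗ₜ[R] ((exists_gl_lift_flat I hI e₀ m).choose *
          (exists_gl_lift_flat I hI e₀ n).choose)) = _
      rw [h1, map_mul, (exists_gl_lift_flat I hI e₀ m).choose_spec.2,
        (exists_gl_lift_flat I hI e₀ n).choose_spec.2, MonoidAlgebra.single_mul_single, one_mul]

lemma γf_spec (m : M) :
    e₀ ((1 : R ⧸ I) ⊗ₜ[R] (γf I hI e₀ m).val) = MonoidAlgebra.single m 1 :=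
  (exists_gl_lift_flat I hI e₀ m).choose_spec.2

/-- The comparison map `R[M] → A`. -/
noncomputable def ψf : MonoidAlgebra R M →ₐc[R] A :=
  (MonoidAlgebra.liftGroupLikeBialgHom (R := R) (A := A)).comp
    (MonoidAlgebra.mapDomainBialgHom R (γf I hI e₀))

lemma ψf_single (m : M) (r : R) :
    ψf I hI e₀ (MonoidAlgebra.single m r) = r • (γf I hI e₀ m).val := by
  simp [ψf, MonoidAlgebra.liftGroupLikeBialgHom, Algebra.smul_def]

lemma ψf_eq_sum (w : MonoidAlgebra R M) :
    ψf I hI e₀ w = ∑ n ∈ w.coeff.support, w.coeff n • (γf I hI e₀ n).val := by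
  conv_lhs => rw [← MonoidAlgebra.sum_coeff_single w, Finsupp.sum, map_sum]
  exact Finset.sum_congr rfl fun m _ => ψf_single I hI e₀ m _

theorem ψf_surjective : Function.Surjective (ψf I hI e₀) := by
  obtain ⟨N, hN⟩ : ∃ N : Submodule R A, N =
      LinearMap.range ((ψf I hI e₀ : MonoidAlgebra R M →ₐ[R] A).toLinearMap) := ⟨_, rfl⟩
  have hγN : ∀ m, (γf I hI e₀ m).val ∈ N := fun m => by
    rw [hN]
    refine ⟨MonoidAlgebra.single m 1, ?_⟩
    show ψf I hI e₀ (MonoidAlgebra.single m 1) = _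
    rw [ψf_single, one_smul]
  have h0 : Submodule.span R
      {a : A | ∃ n : M, e₀ ((1 : R ⧸ I) ⊗ₜ[R] a) = MonoidAlgebra.single n 1} ≤
      N ⊔ I • (⊤ : Submodule R A) := by
    rw [Submodule.span_le]
    rintro a ⟨n, ha⟩
    have h3 := sub_mem_of_isLift I e₀ ha (γf_spec I hI e₀ n)
    have h4 : a - (γf I hI e₀ n).val ∈ N ⊔ I • (⊤ : Submodule R A) := Submodule.mem_sup_right h3
    have h5 : (γf I hI e₀ n).val ∈ N ⊔ I • (⊤ : Submodule R A) := Submodule.mem_sup_left (hγN n)
    have h2 := Submodule.add_mem _ h4 h5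
    rwa [sub_add_cancel] at h2
  have h1 : N ⊔ I • (⊤ : Submodule R A) = ⊤ := by
    apply top_unique
    calc (⊤ : Submodule R A) = Submodule.span R
          {a : A | ∃ n : M, e₀ ((1 : R ⧸ I) ⊗ₜ[R] a) = MonoidAlgebra.single n 1} ⊔
            I • (⊤ : Submodule R A) := (span_isLift_sup I e₀).symm
      _ ≤ N ⊔ I • (⊤ : Submodule R A) := sup_le h0 le_sup_right
  have h2 : I • (⊤ : Submodule R A) ≤ N := by
    calc I • (⊤ : Submodule R A) = I • (N ⊔ I • (⊤ : Submodule R A)) := by rw [h1]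
      _ = I • N ⊔ I • (I • (⊤ : Submodule R A)) := Submodule.smul_sup _ _ _
      _ = I • N ⊔ (I * I) • (⊤ : Submodule R A) := by rw [Submodule.mul_smul]
      _ = I • N := by rw [mul_self_eq_bot I hI, Submodule.bot_smul, sup_bot_eq]
      _ ≤ N := Submodule.smul_le_right
  have h3 : N = ⊤ := by
    apply top_unique
    rw [← h1]
    exact sup_le le_rfl h2
  intro a
  have : a ∈ N := h3 ▸ Submodule.mem_top
  rw [hN] at this
  obtain ⟨z, hz⟩ := this
  exact ⟨z, hz⟩

open Classical in
theorem ψf_injective : Function.Injective (ψf I hI e₀) := by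
  rw [injective_iff_map_eq_zero]
  intro w hw
  have hsum := ψf_eq_sum I hI e₀ w
  have hlam : ∀ n n' : M, lam I e₀ n (γf I hI e₀ n').val = if n' = n then 1 else 0 := fun n n' =>
    lam_of_isLift I e₀ (γf_spec I hI e₀ n') n
  have hmem : ∀ n, w.coeff n ∈ I := by
    intro n
    have h1 := congrArg (lam I e₀ n) hw
    rw [map_zero, hsum, map_sum] at h1
    simp only [map_smul, hlam, smul_ite, smul_zero] at h1
    rw [Finset.sum_ite_eq'] at h1
    by_cases hn : n ∈ w.coeff.support
    · rw [if_pos hn, Algebra.smul_def, mul_one, Ideal.Quotient.algebraMap_eq] at h1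
      exact Ideal.Quotient.eq_zero_iff_mem.mp h1
    · rw [Finsupp.notMem_support_iff.mp hn]
      exact I.zero_mem
  have hzt : (∑ n ∈ w.coeff.support,
      (⟨w.coeff n, hmem n⟩ : I) ⊗ₜ[R] (γf I hI e₀ n).val : I ⊗[R] A) = 0 := by
    apply iot_injective I A
    rw [map_zero, map_sum]
    simp only [iot_tmul]
    rw [← hsum]
    exact hw
  ext n
  have h1 := congrArg (cc I hI (lam I e₀ n)) hzt
  rw [map_zero, map_sum] at h1
  simp only [cc_tmul, hlam] at h1
  have h2 : ∀ n' : M, sc I hI (if n' = n then (1 : R ⧸ I) else 0) (⟨w.coeff n', hmem n'⟩ : I) =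
      if n' = n then (⟨w.coeff n', hmem n'⟩ : I) else 0 := by
    intro n'
    split_ifs
    · rw [sc_one]
    · rw [map_zero, LinearMap.zero_apply]
  simp only [h2] at h1
  rw [Finset.sum_ite_eq'] at h1
  rw [MonoidAlgebra.coeff_zero, Finsupp.coe_zero, Pi.zero_apply]
  by_cases hn : n ∈ w.coeff.support
  · rw [if_pos hn] at h1
    exact congrArg Subtype.val h1
  · exact Finsupp.notMem_support_iff.mp hn

end Hopf

section Main

/-- A flat Hopf algebra which is diagonalisable modulo a square-zero ideal is diagonalisable. -/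
theorem isDiag_of_flat_sqZero {R : Type u} [CommRing R] {A : Type u} [CommRing A]
    [HopfAlgebra R A] [Module.Flat R A] (I : Ideal R) (hI : ∀ x ∈ I, ∀ y ∈ I, x * y = 0)
    (h0 : IsDiag (R ⧸ I) ((R ⧸ I) ⊗[R] A)) : IsDiag R A := by
  obtain ⟨M, _, ⟨e₀⟩⟩ := h0
  exact ⟨M, inferInstance, ⟨(BialgEquiv.ofBijective (ψf I hI e₀)
    ⟨ψf_injective I hI e₀, ψf_surjective I hI e₀⟩).symm⟩⟩

open Groth.Agent.Lib.Helper6.IsoNil in
theorem isDiag_of_flat_pow_eq_bot : ∀ (n : ℕ) (R : Type u) [CommRing R] (A : Type u) [CommRing A]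
    [HopfAlgebra R A] [Module.Flat R A] (I : Ideal R), I ^ n = ⊥ →
    IsDiag (R ⧸ I) ((R ⧸ I) ⊗[R] A) → IsDiag R A := by
  intro n
  induction n with
  | zero =>
    intro R _ A _ _ _ I hn h0
    have hsub : Subsingleton R := by
      rw [pow_zero, Ideal.one_eq_top] at hn
      exact (Submodule.subsingleton_iff R).mp (subsingleton_of_bot_eq_top hn.symm)
    exact isDiag_of_flat_sqZero I (fun x _ y _ => Subsingleton.elim _ _) h0
  | succ n ih =>
    intro R _ A _ _ _ I hn h0
    by_cases hn0 : n = 0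
    · subst hn0
      rw [zero_add, pow_one] at hn
      refine isDiag_of_flat_sqZero I (fun x hx y _ => ?_) h0
      rw [hn, Ideal.mem_bot] at hx
      rw [hx, zero_mul]
    · have hK : ∀ x ∈ I ^ n, ∀ y ∈ I ^ n, x * y = 0 := by
        intro x hx y hy
        have h1 : x * y ∈ I ^ n * I ^ n := Ideal.mul_mem_mul hx hy
        rw [← pow_add] at h1
        have h2 : I ^ (n + n) ≤ I ^ (n + 1) := Ideal.pow_le_pow_right (by omega)
        have h3 := h2 h1
        rwa [hn, Ideal.mem_bot] at h3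
      apply isDiag_of_flat_sqZero (I ^ n) hK
      apply ih (R ⧸ I ^ n) ((R ⧸ I ^ n) ⊗[R] A) (I.map (Ideal.Quotient.mk (I ^ n)))
      · rw [← Ideal.map_pow, Ideal.map_quotient_self]
      · have hφ : ∀ x ∈ I, algebraMap R ((R ⧸ I ^ n) ⧸ I.map (Ideal.Quotient.mk (I ^ n))) x = 0 := by
          intro x hx
          rw [IsScalarTower.algebraMap_apply R (R ⧸ I ^ n)
            ((R ⧸ I ^ n) ⧸ I.map (Ideal.Quotient.mk (I ^ n))), Ideal.Quotient.algebraMap_eq,
            Ideal.Quotient.algebraMap_eq, Ideal.Quotient.eq_zero_iff_mem]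
          exact Ideal.mem_map_of_mem _ hx
        have h1 := isDiag_transfer (R := R) (A := A)
          (Ideal.Quotient.lift I (algebraMap R ((R ⧸ I ^ n) ⧸ I.map (Ideal.Quotient.mk (I ^ n)))) hφ)
          (fun r => Ideal.Quotient.lift_mk I _ hφ) h0
        exact IsDiag.to_tower (R ⧸ I ^ n) ((R ⧸ I ^ n) ⧸ I.map (Ideal.Quotient.mk (I ^ n))) h1

/-- A flat Hopf algebra which is diagonalisable modulo a nilpotent ideal is diagonalisable. -/
theorem isDiag_of_flat_nilpotent {R : Type u} [CommRing R] {A : Type u} [CommRing A]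
    [HopfAlgebra R A] [Module.Flat R A] (I : Ideal R) (hI : IsNilpotent I)
    (h0 : IsDiag (R ⧸ I) ((R ⧸ I) ⊗[R] A)) : IsDiag R A := by
  obtain ⟨n, hn⟩ := hI
  exact isDiag_of_flat_pow_eq_bot n R A I (by rw [hn, Ideal.zero_eq_bot]) h0

end Main

end Groth.Agent.Lib.Helper6.FlatDef
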