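import Mathlib
import Groth.Prelude.Def_SGA3b
import Groth.Agent.Lib.Helper6.FlatDef.FD4
import Groth.Agent.Lib.Helper6.IsoNil.IN3
import Groth.Agent.Lib.Helper6.Isotriv.Main

/-!
# Flat deformations of diagonalisable groups, part 5: quasi-isotrivial and isotrivial groups over
nilpotent thickenings (helper6)
-/

set_option autoImplicit false
set_option linter.unusedSectionVars false
set_option linter.unusedVariables false
set_option linter.unusedSimpArgs false
set_option linter.style.haveILetI false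
set_option linter.overlappingInstances false
set_option maxHeartbeats 800000
set_option synthInstance.maxHeartbeats 400000

universe u
open TensorProduct SGA3b Coalgebra
open Groth.Agent.Lib.Helper6.MultType Groth.Agent.Lib.Helper6.Lift
  Groth.Agent.Lib.Helper6.IsoNil Groth.Agent.Lib.Helper6.EtLift

namespace Groth.Agent.Lib.Helper6.FlatDef

section Basic

variable {R : Type u} [CommRing R]

lemma nil_of_isNilpotent (I : Ideal R) (hI : IsNilpotent I) : ∀ x ∈ I, IsNilpotent x := by
  intro x hx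
  obtain ⟨n, hn⟩ := hI
  refine ⟨n, ?_⟩
  have := Ideal.pow_mem_pow hx n
  rw [hn, Ideal.zero_eq_bot, Ideal.mem_bot] at this
  exact this

lemma isNilpotent_map (I : Ideal R) (hI : IsNilpotent I) (S : Type u) [CommRing S] [Algebra R S] :
    IsNilpotent (I.map (algebraMap R S)) := by
  obtain ⟨n, hn⟩ := hI
  exact ⟨n, by rw [← Ideal.map_pow, hn, Ideal.zero_eq_bot, Ideal.map_bot, Ideal.zero_eq_bot]⟩

variable {A : Type u} [CommRing A] [HopfAlgebra R A]

attribute [local instance] Algebra.TensorProduct.rightAlgebra in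
/-- A Hopf algebra split by a faithfully flat cover is of multiplicative type. -/
theorem isMultType_of_ff_chart (R' : Type u) [CommRing R'] [Algebra R R']
    [Module.FaithfullyFlat R R'] (hd : IsDiag R' (R' ⊗[R] A)) : IsMultType R A := by
  refine ⟨{1}, by simp, ?_⟩
  intro f hf
  rw [Set.mem_singleton_iff] at hf
  subst hf
  refine ⟨Localization.Away (1 : R) ⊗[R] R', inferInstance, inferInstance, inferInstance, ?_⟩
  apply IsDiag.to_tower (R := R) (Localization.Away (1 : R)) (Localization.Away (1 : R) ⊗[R] R')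
  exact IsDiag.of_tower R' (Localization.Away (1 : R) ⊗[R] R')
    (IsDiag.baseChange hd (Localization.Away (1 : R) ⊗[R] R'))

theorem isMultType_of_isIsotrivial (h : IsIsotrivial R A) : IsMultType R A := by
  obtain ⟨R', _, _, -, -, hff, hd⟩ := h
  haveI := hff
  exact isMultType_of_ff_chart R' hd

end Basic

section Lift

variable {R : Type u} [CommRing R] {A : Type u} [CommRing A] [HopfAlgebra R A] [Module.Flat R A]

/-- Lifting an étale faithfully flat splitting cover of a flat Hopf algebra through a nilpotent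
thickening. -/
theorem exists_lift_flat (I : Ideal R) (hI : IsNilpotent I)
    (Sb : Type u) [CommRing Sb] [Algebra (R ⧸ I) Sb] [Algebra R Sb] [IsScalarTower R (R ⧸ I) Sb]
    [Algebra.Etale (R ⧸ I) Sb] [Module.FaithfullyFlat (R ⧸ I) Sb]
    (hd : IsDiag Sb (Sb ⊗[R] A)) :
    ∃ (S : Type u) (_ : CommRing S) (_ : Algebra R S), Algebra.Etale R S ∧
      Module.FaithfullyFlat R S ∧ IsDiag S (S ⊗[R] A) ∧
      (Module.Finite (R ⧸ I) Sb → Module.Finite R S) := by
  obtain ⟨S, _, _, q, hS, hq, hker, hcomp⟩ := exists_etale_lift_surj R I Sb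
  haveI := hS
  have hI' := nil_of_isNilpotent I hI
  have hnil : IsNilpotent (RingHom.ker q) := by
    rw [hker]
    exact isNilpotent_map I hI S
  refine ⟨S, inferInstance, inferInstance, hS, faithfullyFlat_of_lift I hI' q hcomp, ?_, ?_⟩
  · apply isDiag_of_flat_nilpotent (RingHom.ker q) hnil
    apply IsDiag.to_tower S (S ⧸ RingHom.ker q)
    refine isDiag_transfer (RingHom.quotientKerEquivOfSurjective hq).symm.toRingHom ?_ hd
    intro r
    have h1 : algebraMap R Sb r = q (algebraMap R S r) := by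
      rw [hcomp, IsScalarTower.algebraMap_apply R (R ⧸ I) Sb]
      rfl
    rw [h1]
    exact RingHom.quotientKerEquivOfSurjective_symm_apply hq _
  · intro hfin
    haveI := hfin
    haveI : Algebra.IsIntegral R S := isIntegral_of_lift I hI' q hcomp hker
    exact Algebra.IsIntegral.finite

/-- The local step of the quasi-isotrivial case, flat version. -/
theorem isQuasiIsotrivialConst_of_flat_mod_nilpotent (I : Ideal R) (hI : IsNilpotent I) (f : R)
    (Rf : Type u) [CommRing Rf] [Algebra R Rf] [IsLocalization.Away f Rf]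
    (Q : Type u) [CommRing Q] [Algebra (R ⧸ I) Q] [IsLocalization.Away (Ideal.Quotient.mk I f) Q]
    (R0 : Type u) [CommRing R0] [Algebra Q R0] [Algebra.Etale Q R0] [Module.FaithfullyFlat Q R0]
    [Algebra (R ⧸ I) R0] [IsScalarTower (R ⧸ I) Q R0]
    (h1 : IsDiag R0 (R0 ⊗[R ⧸ I] ((R ⧸ I) ⊗[R] A))) :
    IsQuasiIsotrivialConst Rf (Rf ⊗[R] A) := by
  haveI hloc : IsLocalization (Submonoid.powers (Ideal.Quotient.mk I f))
      (Rf ⧸ I.map (algebraMap R Rf)) := by
    have := (inferInstance : IsLocalization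
      (Algebra.algebraMapSubmonoid (R ⧸ I) (Submonoid.powers f)) (Rf ⧸ I.map (algebraMap R Rf)))
    rwa [Algebra.algebraMapSubmonoid, Submonoid.map_powers] at this
  let e : (Rf ⧸ I.map (algebraMap R Rf)) ≃ₐ[R ⧸ I] Q :=
    IsLocalization.algEquiv (Submonoid.powers (Ideal.Quotient.mk I f)) _ _
  letI aP : Algebra (Rf ⧸ I.map (algebraMap R Rf)) R0 :=
    ((algebraMap Q R0).comp (e : (Rf ⧸ I.map (algebraMap R Rf)) →+* Q)).toAlgebra
  obtain ⟨hét, hff⟩ := etale_ff_of_ringEquiv (P := Rf ⧸ I.map (algebraMap R Rf)) (Q := Q)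
    (R0 := R0) e.toRingEquiv (fun x => rfl)
  haveI := hét
  haveI := hff
  letI aR : Algebra R R0 := ((algebraMap (R ⧸ I) R0).comp (Ideal.Quotient.mk I)).toAlgebra
  haveI : IsScalarTower R (R ⧸ I) R0 := IsScalarTower.of_algebraMap_eq' rfl
  letI aRf : Algebra Rf R0 :=
    ((algebraMap (Rf ⧸ I.map (algebraMap R Rf)) R0).comp (Ideal.Quotient.mk _)).toAlgebra
  haveI : IsScalarTower Rf (Rf ⧸ I.map (algebraMap R Rf)) R0 :=
    IsScalarTower.of_algebraMap_eq' rfl
  haveI : IsScalarTower R Rf R0 := IsScalarTower.of_algebraMap_eq (fun r => by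
    show algebraMap (R ⧸ I) R0 (Ideal.Quotient.mk I r) =
      algebraMap Q R0 (e (Ideal.Quotient.mk _ (algebraMap R Rf r)))
    rw [IsScalarTower.algebraMap_apply (R ⧸ I) Q R0]
    congr 1
    exact (e.commutes (Ideal.Quotient.mk I r)).symm)
  have h2 : IsDiag R0 (R0 ⊗[R] A) := IsDiag.of_tower (R ⧸ I) R0 h1
  have h3 : IsDiag R0 (R0 ⊗[Rf] (Rf ⊗[R] A)) := IsDiag.to_tower Rf R0 h2
  obtain ⟨S, _, _, hS1, hS2, hS3, -⟩ := exists_lift_flat (A := Rf ⊗[R] A)
    (I.map (algebraMap R Rf)) (isNilpotent_map I hI Rf) R0 h3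
  exact ⟨S, inferInstance, inferInstance, hS1, hS2, hS3⟩

/-- A flat Hopf algebra which is quasi-isotrivial modulo a nilpotent ideal is quasi-isotrivial. -/
theorem isQuasiIsotrivial_of_flat_mod_nilpotent (I : Ideal R) (hI : IsNilpotent I)
    (hq : IsQuasiIsotrivial (R ⧸ I) ((R ⧸ I) ⊗[R] A)) : IsQuasiIsotrivial R A := by
  obtain ⟨sb, hsb, H⟩ := hq
  refine ⟨{f : R | Ideal.Quotient.mk I f ∈ sb},
    span_preimage_eq_top I (nil_of_isNilpotent I hI) sb hsb, fun f hf => ?_⟩
  obtain ⟨R0, _, _, hét, hff, hd⟩ := H _ hf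
  haveI := hét
  haveI := hff
  letI aQ : Algebra (R ⧸ I) R0 := ((algebraMap (Localization.Away (Ideal.Quotient.mk I f)) R0).comp
    (algebraMap (R ⧸ I) (Localization.Away (Ideal.Quotient.mk I f)))).toAlgebra
  haveI : IsScalarTower (R ⧸ I) (Localization.Away (Ideal.Quotient.mk I f)) R0 :=
    IsScalarTower.of_algebraMap_eq' rfl
  exact isQuasiIsotrivialConst_of_flat_mod_nilpotent I hI f (Localization.Away f)
    (Localization.Away (Ideal.Quotient.mk I f)) R0
    (IsDiag.of_tower (Localization.Away (Ideal.Quotient.mk I f)) R0 hd)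

/-- A flat Hopf algebra which is isotrivial modulo a nilpotent ideal is isotrivial. -/
theorem isIsotrivial_of_flat_mod_nilpotent (I : Ideal R) (hI : IsNilpotent I)
    (hi : IsIsotrivial (R ⧸ I) ((R ⧸ I) ⊗[R] A)) : IsIsotrivial R A := by
  obtain ⟨R', _, _, hét, hfin, hff, hd⟩ := hi
  haveI := hét
  haveI := hff
  letI : Algebra R R' := ((algebraMap (R ⧸ I) R').comp (Ideal.Quotient.mk I)).toAlgebra
  haveI : IsScalarTower R (R ⧸ I) R' := IsScalarTower.of_algebraMap_eq' rfl
  obtain ⟨S, _, _, h1, h2, h3, h4⟩ := exists_lift_flat I hI R' (IsDiag.of_tower (R ⧸ I) R' hd)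
  exact ⟨S, inferInstance, inferInstance, h1, h4 hfin, h2, h3⟩

end Lift

section Field

/-- Over a field, a group of multiplicative type and of finite type is isotrivial. -/
theorem isIsotrivial_of_field (k : Type u) [Field k] (B : Type u) [CommRing B] [HopfAlgebra k B]
    (hft : Algebra.FiniteType k B) (h : IsMultType k B) : IsIsotrivial k B := by
  obtain ⟨k', _, _, hfin, hsep, M, _, -, ⟨e⟩⟩ :=
    Groth.Agent.Lib.Helper6.Isotriv.isotrivial_of_field k B hft h
  haveI := hfin
  haveI := hsep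
  haveI : Algebra.FormallyEtale k k' := Algebra.FormallyEtale.of_isSeparable k k'
  haveI : Algebra.FinitePresentation k k' := Algebra.FinitePresentation.of_finiteType.mp inferInstance
  exact ⟨k', inferInstance, inferInstance, ⟨inferInstance, inferInstance⟩, hfin, inferInstance,
    ⟨M, inferInstance, ⟨e⟩⟩⟩

end Field

end Groth.Agent.Lib.Helper6.FlatDef
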